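import Groth.Agent.H56.PSup.BC
import Groth.Agent.Lib.SchColim29.ProperSupportModel
import Groth.Agent.Lib.SchColim29.CohPush
import Groth.Agent.H26.FreeCrit
import Groth.Agent.S0017
import Groth.Agent.S0921
import Groth.Agent.S0961
import Groth.Agent.S9349

/-!
# Direct images of perfect objects tensored with flat finitely presented modules, affine base
-/

set_option autoImplicit false
set_option linter.style.haveILetI false
set_option linter.unusedSectionVars false

universe u

open CategoryTheory Limits AlgebraicGeometry HomologicalComplex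

attribute [local instance] HasDerivedCategory.standard

namespace Groth.Agent.H56.PSup.Affine

open Groth.Agent.Lib Groth.Agent.Lib.DerivedOX
open Groth.Agent.Lib.SchColim29

variable {X : Scheme.{u}}

/-- A direct image along an affine morphism of a module in degree `0`. -/
theorem nonempty_inD_push {Z : Scheme.{u}} (i : Z ⟶ X) [IsAffineHom i] [DCoh.HasRpush i]
    (G : Z.Modules) [G.IsQuasicoherent] :
    Nonempty (DCoh.inD X ((Scheme.Modules.pushforward i).obj G) ≅
      (DCoh.Rpush i).obj (DCoh.inD Z G)) := by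
  let F := (CochainComplex.singleFunctor Z.Modules 0).obj G
  let eP : (RpushCoprod.pushC i).obj F ≅
      (CochainComplex.singleFunctor X.Modules 0).obj ((Scheme.Modules.pushforward i).obj G) :=
    (HomologicalComplex.singleMapHomologicalComplex (Scheme.Modules.pushforward i)
      (ComplexShape.up ℤ) 0).app G
  have hF : ∀ n, WayOut.Scheme.qc Z (F.X n) := fun n => by
    by_cases hn : n = 0
    · subst hn
      exact (WayOut.Scheme.qc Z).prop_of_iso
        (HomologicalComplex.singleObjXSelf (ComplexShape.up ℤ) 0 G).symm ‹G.IsQuasicoherent›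
    · exact RpushQCoh.qc_of_isZero (HomologicalComplex.isZero_single_obj_X (ComplexShape.up ℤ) 0 G n hn)
  have hu := AffinePush.isIso_unit i F hF
  haveI : IsIso ((RpushCoprod.cmpPush i).app F) := by
    simp only [RpushCoprod.cmpPush, NatTrans.comp_app]
    haveI : IsIso ((Functor.whiskerLeft (HomotopyCategory.quotient Z.Modules (ComplexShape.up ℤ))
        ((DCoh.pushKh i).totalRightDerivedUnit DerivedCategory.Qh
          (HomotopyCategory.quasiIso Z.Modules (ComplexShape.up ℤ)))).app F) := hu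
    infer_instance
  exact ⟨(DerivedCategory.singleFunctorIsoCompQ X.Modules 0).app _ ≪≫ DerivedCategory.Q.mapIso eP.symm ≪≫
      asIso ((RpushCoprod.cmpPush i).app F) ≪≫
      (DCoh.Rpush i).mapIso ((DerivedCategory.singleFunctorIsoCompQ Z.Modules 0).app G).symm⟩

/-- `Rf_*(G ⊗^L D)` is perfect over an affine base. -/
theorem isPerfect {A : CommRingCat.{u}} (f : X ⟶ Spec A) [LocallyOfFinitePresentation f]
    [QuasiCompact f] [QuasiSeparated f] [DCoh.HasRpush f] (D : CochainComplex X.Modules ℤ)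
    (hDk : DCoh.IsKFlat D) (hD : DCoh.IsPerfect (DerivedCategory.Q.obj D)) [DCoh.HasLTensorCx D]
    (G : X.Modules) (hG : CohB1.IsFP G) (hflat : FlatMod.IsFlatOver f G)
    (hsupp : ClSub.IsProperOver f (CohB1.support G)) :
    DCoh.IsPerfect ((DCoh.Rpush f).obj ((DCoh.LTensorCx D).obj (DCoh.inD X G))) := by
  haveI : G.IsQuasicoherent := Groth.Agent.H26.FreeCrit.isQuasicoherent_of_isFP hG
  obtain ⟨A₀, hA₀, b, X₀, f₀, q, F₀, hft, hqc, hsq, hF₀, hfl₀, hsp₀, ⟨eF⟩⟩ :=
    ProperSupportModel.exists_model f G hG hflat hsupp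
  haveI := hA₀; haveI := hft; haveI := hqc
  obtain ⟨Z₀, i₀, hi₀, hp₀, H₀, hH₀q, hH₀ft, ⟨eH⟩⟩ :=
    (Groth.Agent.S0792.result f₀ F₀ hF₀.1 hF₀.2).1 hsp₀
  haveI := hi₀; haveI := hp₀
  haveI : H₀.IsQuasicoherent := hH₀q
  have hfH : FlatMod.IsFlatOver (i₀ ≫ f₀) H₀ := by
    refine (Groth.Agent.S9349.result i₀ f₀ H₀ hH₀q).2 fun x => ?_
    exact Flat55.FlatOverAt.of_iso f₀ eH.symm x (hfl₀ x)
  let i : pullback q i₀ ⟶ X := pullback.fst q i₀
  let r : pullback q i₀ ⟶ Z₀ := pullback.snd q i₀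
  have H' : IsPullback r (i ≫ f) (i₀ ≫ f₀) b :=
    (IsPullback.of_hasPullback q i₀).flip.paste_vert hsq
  haveI : IsProper (i ≫ f) := MorphismProperty.of_isPullback H' hp₀
  obtain ⟨φ, rfl⟩ : ∃ φ : A₀ ⟶ A, Spec.map φ = b := ⟨Spec.preimage b, Spec.map_preimage b⟩
  let H₁ := (Scheme.Modules.pullback r).obj H₀
  haveI : H₁.IsQuasicoherent := QCoh.Pullback.isQCoh_pullback r H₀
  haveI : Coh.IsQCoh H₀ := hH₀q
  obtain ⟨ebc⟩ := Groth.Agent.S0017.result i₀ q r i (IsPullback.of_hasPullback q i₀).flip H₀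
  let eG : G ≅ (Scheme.Modules.pushforward i).obj H₁ :=
    eF.symm ≪≫ (Scheme.Modules.pullback q).mapIso eH.symm ≪≫ ebc
  haveI := Exists.hasRpush i
  haveI := Exists.hasRpush (i ≫ f)
  obtain ⟨ei⟩ := nonempty_inD_push i H₁
  let D' := ((Scheme.Modules.pullback i).mapHomologicalComplex (ComplexShape.up ℤ)).obj D
  have hD'k : DCoh.IsKFlat D' := KFlatPullback.isKFlat_pullback i hDk
  haveI := LeftExists.hasLpull i
  obtain ⟨el⟩ := QCohLocal.nonempty_Lpull_iso i hDk
  have hD' : DCoh.IsPerfect (DerivedCategory.Q.obj D') :=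
    Perfect.Triangle.isPerfect_of_iso el (Groth.Agent.S0921.result i _ hD)
  haveI := LeftExists.hasLTensorCx D'
  obtain ⟨ep⟩ := Groth.Agent.S0961.result i D hDk hD (DCoh.inD _ H₁)
  haveI := LeftExists.hasLTensorCx ((single (pullback q i₀).Modules (ComplexShape.up ℤ) 0).obj H₁)
  obtain ⟨sw⟩ := RpushPerfFlat.nonempty_swap D' hD'k H₁
  haveI := LeftExists.hasLTensorCx
    ((single (pullback q i₀).Modules (ComplexShape.up ℤ) 0).obj ((Scheme.Modules.pullback r).obj H₀))
  have key : DCoh.IsPerfect ((DCoh.Rpush (i ≫ f)).obj ((DCoh.LTensorCx D').obj (DCoh.inD _ H₁))) :=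
    Perfect.Triangle.isPerfect_of_iso ((DCoh.Rpush (i ≫ f)).mapIso sw)
      (BC.isPerfect_Rpush (φ := φ.hom) H' ⟨hH₀q, hH₀ft⟩ hfH hD')
  exact Perfect.Triangle.isPerfect_of_iso
    (((PullComp.rpushCompIso i f).app _).symm ≪≫ (DCoh.Rpush f).mapIso (ep.symm ≪≫
      (DCoh.LTensorCx D).mapIso (ei.symm ≪≫
        (DerivedCategory.singleFunctor X.Modules 0).mapIso eG.symm))) key

end Groth.Agent.H56.PSup.Affine
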