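import Groth.Agent.H56.PSup.Triangle
import Groth.Agent.Lib.SchColim29.RpushPerfect
import Groth.Agent.Lib.SchColim29.RpushPerfFlat

/-!
# Direct images of perfect objects tensored with a base-changed flat coherent module
-/

set_option autoImplicit false
set_option linter.style.haveILetI false
set_option linter.unusedSectionVars false

universe u

open CategoryTheory Limits AlgebraicGeometry HomologicalComplex

attribute [local instance] HasDerivedCategory.standard

namespace Groth.Agent.H56.PSup.BC

open Groth.Agent.Lib Groth.Agent.Lib.DerivedOX Groth.Agent.Lib.BettiExact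
open Groth.Agent.Lib.SchColim29 Groth.Agent.Lib.Modules StalkModule
open scoped TensorProduct

theorem flat_tensor_mixed {R A M N : Type u} [CommRing R] [CommRing A] [Algebra R A]
    [AddCommGroup M] [Module A M] [Module R M] [IsScalarTower R A M]
    [AddCommGroup N] [Module A N] [Module R N] [IsScalarTower R A N]
    [Module.Flat A M] [Module.Flat R N] : Module.Flat R (N ⊗[A] M) := by
  rw [Module.Flat.iff_lTensor_preserves_injective_linearMap]
  intro P Q _ _ _ _ h hh
  let e : ∀ (W : Type u) [AddCommGroup W] [Module R W], (N ⊗[A] M) ⊗[R] W ≃ₗ[R] (N ⊗[R] W) ⊗[A] M :=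
    fun W _ _ => (TensorProduct.AlgebraTensorModule.rightComm R A A N M W).restrictScalars R
  have hi : Function.Injective (LinearMap.rTensor M (TensorProduct.AlgebraTensorModule.lTensor A N h)) :=
    Module.Flat.rTensor_preserves_injective_linearMap _ (Module.Flat.lTensor_preserves_injective_linearMap h hh)
  have key : ∀ z, e Q (LinearMap.lTensor (N ⊗[A] M) h z) =
      LinearMap.rTensor M (TensorProduct.AlgebraTensorModule.lTensor A N h) (e P z) := fun z => by
    induction z with
    | zero => simp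
    | add a b ha hb => simp only [map_add, ha, hb]
    | tmul w x =>
      induction w with
      | zero => simp
      | add a b ha hb => simp only [TensorProduct.add_tmul, map_add, ha, hb]
      | tmul n m => simp [e]
  intro a b hab
  apply (e P).injective
  apply hi
  rw [← key, ← key, hab]

/-- `M ⊗ H` is flat over the base if `M` is flat and `H` is flat over the base. -/
theorem isFlatOver_tensor {X S : Scheme.{u}} (f : X ⟶ S) {M H : X.Modules}
    (hM : FlatMod.IsFlat M) (hH : FlatMod.IsFlatOver f H) :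
    FlatMod.IsFlatOver f ((DCoh.tensorRightMod H).obj M) := by
  intro x
  letI : Algebra (S.presheaf.stalk (f.base x)) (X.presheaf.stalk x) := (f.stalkMap x).hom.toAlgebra
  letI := FlatMod.moduleStalkOver f H x
  letI := FlatMod.moduleStalkOver f M x
  letI := FlatMod.moduleStalkOver f ((DCoh.tensorRightMod H).obj M) x
  haveI : IsScalarTower (S.presheaf.stalk (f.base x)) (X.presheaf.stalk x) (H.presheaf.stalk x) :=
    IsScalarTower.of_algebraMap_smul fun _ _ => rfl
  haveI : IsScalarTower (S.presheaf.stalk (f.base x)) (X.presheaf.stalk x) (M.presheaf.stalk x) :=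
    IsScalarTower.of_algebraMap_smul fun _ _ => rfl
  haveI : IsScalarTower (S.presheaf.stalk (f.base x)) (X.presheaf.stalk x)
      (((DCoh.tensorRightMod H).obj M).presheaf.stalk x) :=
    IsScalarTower.of_algebraMap_smul fun _ _ => rfl
  haveI : Module.Flat (X.presheaf.stalk x) (M.presheaf.stalk x) := hM x
  haveI : Module.Flat (S.presheaf.stalk (f.base x)) (H.presheaf.stalk x) := hH x
  show Module.Flat (S.presheaf.stalk (f.base x)) (((DCoh.tensorRightMod H).obj M).presheaf.stalk x)
  haveI := flat_tensor_mixed (R := S.presheaf.stalk (f.base x)) (A := X.presheaf.stalk x)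
    (M := M.presheaf.stalk x) (N := H.presheaf.stalk x)
  let e0 : ((DCoh.tensorRightMod H).obj M).presheaf.stalk x ≃ₗ[X.presheaf.stalk x]
      H.presheaf.stalk x ⊗[X.presheaf.stalk x] M.presheaf.stalk x :=
    (TensorSheaf.tensorStalk x M H).trans
      (TensorProduct.comm (X.presheaf.stalk x) (M.presheaf.stalk x) (H.presheaf.stalk x))
  exact Module.Flat.of_linearEquiv (e0.restrictScalars (S.presheaf.stalk (f.base x)))

/-- The tensor product of two quasi-coherent modules. -/
theorem qc_tensorRight {X : Scheme.{u}} (M H : X.Modules) [M.IsQuasicoherent] [H.IsQuasicoherent] :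
    ((DCoh.tensorRightMod H).obj M).IsQuasicoherent :=
  TensorMod.TensorQCoh.isQCoh_tensorMod M H

variable {X : Scheme.{u}}

/-- `M_• ⊗ F` as the total tensor product with `F[0]`. -/
noncomputable def tensIso (F : X.Modules) (B : CochainComplex X.Modules ℤ) :
    (Amplitude.tens F).obj B ≅
      (DCoh.tensorCx.obj B).obj ((single X.Modules (ComplexShape.up ℤ) 0).obj F) :=
  let c : DCoh.tensorRightMod F ≅ (DCoh.tensorBi (X := X)).obj F :=
    NatIso.ofComponents (fun N => TensorMod.Basic.comm N F) (fun {N N'} g => by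
      change ((DCoh.tensorBi (X := X)).map g).app F ≫ _ = _ ≫ ((DCoh.tensorBi (X := X)).obj F).map g
      rw [PullTensor.tensorBi_map_app, PullTensor.tensorBi_obj_map]
      exact TensorMod.Basic.comm_natural g (𝟙 F))
  (NatIso.mapHomologicalComplex c (ComplexShape.up ℤ)).app B ≪≫
    (SingleTensor.singleZeroIso (DCoh.tensorBi (X := X)) F).app B ≪≫ TensorSymm.commCx _ B

variable {A A' : Type u} [CommRing A] [IsNoetherianRing A] [CommRing A']
  {φ : A →+* A'} {X₀ : Scheme.{u}} {f : X₀ ⟶ Spec (CommRingCat.of A)}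
  {f' : X ⟶ Spec (CommRingCat.of A')} {g : X ⟶ X₀}

/-- The image of a pulled back perfect object. -/
theorem isPerfect_pulled (H : IsPullback g f' f (Spec.map (CommRingCat.ofHom φ))) [IsProper f]
    [DCoh.HasRpush f'] [DCoh.HasLpull g]
    {M : X₀.Modules} (hM : Coh.IsCoh M) (hflat : FlatMod.IsFlatOver f M)
    [DCoh.HasLTensorCx ((single X.Modules (ComplexShape.up ℤ) 0).obj ((Scheme.Modules.pullback g).obj M))]
    {G : DCoh.D X₀} (hG : DCoh.IsPerfect G) :
    DCoh.IsPerfect ((DCoh.Rpush f').obj ((DCoh.LTensorCx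
      ((single X.Modules (ComplexShape.up ℤ) 0).obj ((Scheme.Modules.pullback g).obj M))).obj
        ((DCoh.Lpull g).obj G))) := by
  haveI := Exists.hasRpush f
  haveI := RpushPerfect.hasRΓA f
  haveI := RpushPerfect.hasRΓA f'
  haveI : IsLocallyNoetherian X₀ := LocallyOfFiniteType.isLocallyNoetherian f
  haveI : CompactSpace X₀ := QuasiCompact.compactSpace_of_compactSpace f
  haveI : IsNoetherian X₀ := {}
  haveI : IsProper f' := MorphismProperty.of_isPullback H inferInstance
  obtain ⟨a, b, E, hEz, hEf, ⟨eE⟩⟩ := PerfTensor.flatAmp_of_isPerfect hG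
  haveI : E.IsStrictlyGE a := (CochainComplex.isStrictlyGE_iff _ _).2 fun i hi => hEz i (Or.inl hi)
  haveI : E.IsStrictlyLE b := (CochainComplex.isStrictlyLE_iff _ _).2 fun i hi => hEz i (Or.inr hi)
  haveI : (DerivedCategory.Q.obj E).IsGE a := (DerivedCategory.isGE_Q_obj_iff E a).2 inferInstance
  haveI : (DerivedCategory.Q.obj E).IsLE b := (DerivedCategory.isLE_Q_obj_iff E b).2 inferInstance
  haveI : G.IsGE a := DerivedCategory.TStructure.t.isGE_of_iso eE a
  haveI : G.IsLE b := DerivedCategory.TStructure.t.isLE_of_iso eE b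
  obtain ⟨P, hPb, hP, ⟨eP⟩⟩ := QCohResolve.exists_flat_model f G
    (Perfect.QCohD.isQCohD_of_isPerfect hG) a b
  have hPk : DCoh.IsKFlat P := Amplitude.isKFlat_of_bounded P b hPb fun i => (hP i).2
  haveI : M.IsQuasicoherent := hM.1
  haveI : M.IsFiniteType := hM.2
  let Q := (Amplitude.tens M).obj P
  have hQq : ∀ i, (Q.X i).IsQuasicoherent := fun i =>
    haveI := (hP i).1
    qc_tensorRight (P.X i) M
  haveI := LeftExists.hasLTensorCx P
  haveI := LeftExists.hasLTensorCx ((single X₀.Modules (ComplexShape.up ℤ) 0).obj M)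
  obtain ⟨sw⟩ := RpushPerfFlat.nonempty_swap P hPk M
  obtain ⟨t⟩ := QCohLocal.nonempty_LTensorCx_iso ((single X₀.Modules (ComplexShape.up ℤ) 0).obj M) hPk
  have h1 : DCoh.IsPerfect ((DCoh.Rpush f).obj (DCoh.toD X₀ Q)) :=
    Perfect.Triangle.isPerfect_of_iso ((DCoh.Rpush f).mapIso
      (sw.symm ≪≫ t ≪≫ DerivedCategory.Q.mapIso (tensIso M P).symm))
      (RpushPerfFlat.isPerfect_Rpush_tensor' f P hPk (Perfect.Triangle.isPerfect_of_iso eP.symm hG)
        hM hflat ⟨Modules.Support.isClosed_support _, inferInstance⟩)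
  obtain ⟨e1⟩ := RpushGamma.nonempty_Rpush_iso f Q hQq
  obtain ⟨L, c, d, hLz, hLp, ⟨eL⟩⟩ := (Groth.Agent.S1105.result A _).1
    (Perfect.Triangle.isPerfect_of_iso e1 h1)
  obtain ⟨G₀, e, hGf, hGz, ⟨eG⟩, ⟨eG'⟩⟩ := CechRes.BC.exists_computes_pair H Q hQq
    (fun i => haveI := hQq i
      CechRes.Flat.secFlat_of_isFlatOver f (Q.X i) (isFlatOver_tensor f (hP i).2 hflat))
    b (fun i hi => (DCoh.tensorRightMod M).map_isZero (hPb i hi))
  haveI : ∀ i, Projective (L.X i) := fun i =>
    (IsProjective.iff_projective _).1 (hLp i).2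
  haveI : L.IsKProjective :=
    haveI : L.IsStrictlyLE d := (L.isStrictlyLE_iff d).2 fun i hi => hLz i (Or.inr hi)
    CochainComplex.isKProjective_of_projective L d
  let α : DerivedCategory.Q.obj L ≅ DerivedCategory.Q.obj G₀ := eL ≪≫ eG.symm
  let q := DerivedCategory.quotientCompQhIso (ModuleCat.{u} A)
  obtain ⟨s', hs'⟩ := (CochainComplex.IsKProjective.Qh_map_bijective L _).2
    ((q.app L).hom ≫ α.hom ≫ (q.app G₀).inv)
  obtain ⟨s, rfl⟩ :=
    (HomotopyCategory.quotient (ModuleCat.{u} A) (ComplexShape.up ℤ)).map_surjective s'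
  have hQs : DerivedCategory.Q.map s = α.hom := by
    have h := q.hom.naturality s
    simp only [Functor.comp_map, hs'] at h
    simpa [q] using h.symm
  haveI : IsIso (DerivedCategory.Q.map s) := by rw [hQs]; infer_instance
  haveI : QuasiIso s := (DerivedCategory.isIso_Q_map_iff_quasiIso _ _).1 inferInstance
  haveI := DR.BaseChange.isIso_ext_map φ s (max d e)
    (fun i hi => hLz i (Or.inr (lt_of_le_of_lt (le_max_left _ _) hi)))
    (fun i hi => hGz i (lt_of_le_of_lt (le_max_right _ _) hi))
    (fun i => DR.BaseChange.flat_of_proj _ (hLp i).2) hGf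
  have hperf : DRing.IsPerfect A' ((HTor.RΓA f').obj (DCoh.toD X ((TorPull.pbC g).obj Q))) := by
    refine ⟨((ModuleCat.extendScalars.{u, u, u} φ).mapHomologicalComplex (ComplexShape.up ℤ)).obj L, c, d,
      fun i hi => (ModuleCat.extendScalars.{u, u, u} φ).map_isZero (hLz i hi),
      fun i => DR.BaseChange.ext_fproj φ _ (hLp i), ⟨?_⟩⟩
    exact asIso (DerivedCategory.Q.map ((DR.BaseChange.ext φ).map s)) ≪≫ eG'
  obtain ⟨e2⟩ := RpushGamma.nonempty_Rpush_iso f' ((TorPull.pbC g).obj Q) fun i => by
    haveI := hQq i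
    exact QCoh.Pullback.isQCoh_pullback g (Q.X i)
  obtain ⟨l⟩ := TorPull.nonempty_lpull_iso g (P := P) hPk
  let S₀ := (single X₀.Modules (ComplexShape.up ℤ) 0).obj M
  let eS : (TorPull.pbC g).obj S₀ ≅
      (single X.Modules (ComplexShape.up ℤ) 0).obj ((Scheme.Modules.pullback g).obj M) :=
    (singleMapHomologicalComplex (Scheme.Modules.pullback g) (ComplexShape.up ℤ) 0).app M
  let eT : (TorPull.pbC g).obj Q ≅ (DCoh.tensorCx.obj ((TorPull.pbC g).obj P)).obj
      ((single X.Modules (ComplexShape.up ℤ) 0).obj ((Scheme.Modules.pullback g).obj M)) :=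
    (TorPull.pbC g).mapIso (tensIso M P) ≪≫ (PullTensor.pullTensorIso g P S₀).symm ≪≫
      (DCoh.tensorCx.obj _).mapIso eS
  obtain ⟨t'⟩ := QCohLocal.nonempty_LTensorCx_iso
    ((single X.Modules (ComplexShape.up ℤ) 0).obj ((Scheme.Modules.pullback g).obj M))
    (KFlatPullback.isKFlat_pullback g hPk)
  exact Perfect.Triangle.isPerfect_of_iso
    (e2.symm ≪≫ (DCoh.Rpush f').mapIso (DerivedCategory.Q.mapIso eT ≪≫ t'.symm ≪≫
      (DCoh.LTensorCx _).mapIso (l.symm ≪≫ (DCoh.Lpull g).mapIso eP)))
    ((Groth.Agent.S1105.result A' _).2 hperf)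

/-- `Rf'_*(K ⊗^L g^*M)` is perfect for `K` perfect, over any base change of a proper morphism to a
Noetherian affine scheme. -/
theorem isPerfect_Rpush (H : IsPullback g f' f (Spec.map (CommRingCat.ofHom φ))) [IsProper f]
    [DCoh.HasRpush f'] {M : X₀.Modules} (hM : Coh.IsCoh M) (hflat : FlatMod.IsFlatOver f M)
    [DCoh.HasLTensorCx ((single X.Modules (ComplexShape.up ℤ) 0).obj ((Scheme.Modules.pullback g).obj M))]
    {K : DCoh.D X} (hK : DCoh.IsPerfect K) :
    DCoh.IsPerfect ((DCoh.Rpush f').obj ((DCoh.LTensorCx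
      ((single X.Modules (ComplexShape.up ℤ) 0).obj ((Scheme.Modules.pullback g).obj M))).obj K)) := by
  haveI := LeftExists.hasLpull g
  haveI : IsAffineHom g := MorphismProperty.of_isPullback H.flip
    (inferInstance : IsAffineHom (Spec.map (CommRingCat.ofHom φ)))
  haveI : IsProper f' := MorphismProperty.of_isPullback H inferInstance
  haveI : CompactSpace X₀ := QuasiCompact.compactSpace_of_compactSpace f
  haveI : QuasiSeparatedSpace X₀ := quasiSeparatedSpace_of_quasiSeparated f
  haveI : CompactSpace X := QuasiCompact.compactSpace_of_compactSpace f'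
  haveI : QuasiSeparatedSpace X := quasiSeparatedSpace_of_quasiSeparated f'
  obtain ⟨G, hG, hqG, hgen⟩ := PerfThick.exists_pulled_generator g
  let F := (single X.Modules (ComplexShape.up ℤ) 0).obj ((Scheme.Modules.pullback g).obj M)
  let Pf : ObjectProperty (DCoh.D (Spec (CommRingCat.of A'))) := fun L => DCoh.IsPerfect L
  let P : ObjectProperty (DCoh.D X) := Triangle.pre F (DCoh.Rpush f') Pf
  haveI : Pf.IsTriangulated := inferInstanceAs
    (ObjectProperty.IsTriangulated fun L : DCoh.D (Spec (CommRingCat.of A')) => DCoh.IsPerfect L)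
  haveI : Pf.IsClosedUnderIsomorphisms := ⟨fun e h => Perfect.Triangle.isPerfect_of_iso e h⟩
  haveI : P.IsTriangulated := Triangle.pre_isTriangulated F (DCoh.Rpush f') Pf
  haveI : P.IsStableUnderRetracts :=
    ⟨fun r h => Gen43.Restrict.isPerfect_of_retract
      ((r.map (DCoh.LTensorCx F)).map (DCoh.Rpush f')) h⟩
  exact PerfThick.mem_thick hqG hgen P (isPerfect_pulled H hM hflat hG) hK

end Groth.Agent.H56.PSup.BC
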