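import Groth.Agent.H56.PSup.Main
import Groth.Agent.Lib.BettiExact.Converse
import Groth.Agent.Lib.DerivedOX.AmplitudeStalk
import Groth.Agent.Lib.Perfect.FlatPerfect
import Groth.Agent.Lib.Gen43.Affine

/-!
# Locally free direct images
-/

set_option autoImplicit false
set_option linter.style.haveILetI false
set_option linter.unusedSectionVars false

universe u

open CategoryTheory Limits AlgebraicGeometry HomologicalComplex

attribute [local instance] HasDerivedCategory.standard

namespace Groth.Agent.H56.PSup.Free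

open Groth.Agent.Lib Groth.Agent.Lib.DerivedOX
open Groth.Agent.Lib.SchColim29

variable {X S : Scheme.{u}}

/-- `Rf_*F` is perfect for a flat finitely presented module with proper support. -/
theorem isPerfect_Rpush_inD (f : X ⟶ S) [LocallyOfFinitePresentation f] [QuasiCompact f]
    [QuasiSeparated f] [DCoh.HasRpush f] (F : X.Modules) (hF : CohB1.IsFP F)
    (hflat : FlatMod.IsFlatOver f F) (hsupp : ClSub.IsProperOver f (CohB1.support F)) :
    DCoh.IsPerfect ((DCoh.Rpush f).obj (DCoh.inD X F)) := by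
  let D := UnitTensor.one X 0
  have hDk : DCoh.IsKFlat D := GammaAcyclic.isKFlat_single (fun x => by
    exact Module.Flat.of_linearEquiv (BettiExact.TorComp.stalkUnitEquiv X x)) 0
  have hD : DCoh.IsPerfect (DerivedCategory.Q.obj D) :=
    Perfect.Triangle.isPerfect_of_iso ((DerivedCategory.singleFunctorIsoCompQ X.Modules 0).app _)
      (Gen43.Affine.isPerfect_oneD' X)
  haveI := LeftExists.hasLTensorCx D
  obtain ⟨P, hP, ⟨eP⟩⟩ := QCohLocal.exists_kflat (DCoh.inD X F)
  obtain ⟨t⟩ := QCohLocal.nonempty_LTensorCx_iso D hP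
  let e : (DCoh.LTensorCx D).obj (DCoh.inD X F) ≅ DCoh.inD X F :=
    (DCoh.LTensorCx D).mapIso eP.symm ≪≫ t ≪≫ DerivedCategory.Q.mapIso (TensorSymm.commCx _ _ ≪≫
      UnitTensor.unitShiftIso 0 P ≪≫ (shiftFunctorZero' (CochainComplex X.Modules ℤ) (-0 : ℤ) (by norm_num)).app P) ≪≫ eP
  exact Perfect.Triangle.isPerfect_of_iso ((DCoh.Rpush f).mapIso e)
    (Main.isPerfect_Rpush f D hDk hD F hF hflat hsupp)

/-- On a quasi-compact quasi-separated base, `H^0` of such an image with no higher cohomology is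
locally free. -/
theorem isFinLocFree_HD (f : X ⟶ S) [LocallyOfFinitePresentation f] [QuasiCompact f]
    [QuasiSeparated f] [CompactSpace S] [QuasiSeparatedSpace S] [DCoh.HasRpush f]
    (F : X.Modules) (hF : CohB1.IsFP F)
    (hflat : FlatMod.IsFlatOver f F) (hsupp : ClSub.IsProperOver f (CohB1.support F))
    (hvan : ((DCoh.Rpush f).obj (DCoh.inD X F)).IsLE 0) :
    FlatMod.IsFinLocFree (DCoh.HD ((DCoh.Rpush f).obj (DCoh.inD X F)) 0) := by
  have hperf := isPerfect_Rpush_inD f F hF hflat hsupp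
  haveI : F.IsQuasicoherent := Groth.Agent.H26.FreeCrit.isQuasicoherent_of_isFP hF
  obtain ⟨N, hN⟩ := RpushTor.exists_bound f
  let C := (single X.Modules (ComplexShape.up ℤ) 0).obj F
  let eC : DCoh.toD X C ≅ DCoh.inD X F := ((DerivedCategory.singleFunctorIsoCompQ _ 0).app F).symm
  have hCq : DCoh.IsQCohD (DCoh.toD X C) := QCohLocal.isQCoh_HD (fun n => by
    by_cases hn : n = 0
    · subst hn
      exact CohBasics.Closure.isQCoh_of_iso (singleObjXSelf (ComplexShape.up ℤ) 0 F).symm
    · exact RpushQCoh.qc_of_isZero (isZero_single_obj_X _ _ _ _ hn)) (Iso.refl _)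
  have htor := RpushTor.torAmp_Rpush f N (fun E _ b hE _ hb => hN E b hE hb) C hCq
    (RpushPerfFlat.torAmp_single f hflat)
  let K := (DCoh.Rpush f).obj (DCoh.inD X F)
  haveI : K.IsLE 0 := hvan
  haveI : CochainComplex.IsStrictlyGE C 0 := (CochainComplex.isStrictlyGE_iff _ _).2 fun i hi =>
    isZero_single_obj_X _ _ _ _ (ne_of_lt hi)
  haveI : (DCoh.toD X C).IsGE 0 := (DerivedCategory.isGE_Q_obj_iff C 0).2 inferInstance
  haveI : (DCoh.inD X F).IsGE 0 := DerivedCategory.TStructure.t.isGE_of_iso eC 0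
  haveI : K.IsGE 0 := Groth.Agent.S11115.result f (DCoh.inD X F) 0
  obtain ⟨H, ⟨eH⟩⟩ := DerivedCategory.exists_iso_singleFunctor_obj_of_isGE_of_isLE K 0
  have hflatH : FlatMod.IsFlat H := by
    refine Amplitude.isFlat_of_tor_one H (fun G => LeftExists.hasLTensorMod G) fun G _ => ?_
    refine (htor G (-1) (Or.inl (by norm_num))).of_iso ((DerivedCategory.homologyFunctor _ (-1 : ℤ)).mapIso
      ((DCoh.LTensorMod G).mapIso ?_))
    exact eH.symm ≪≫ (DCoh.Rpush f).mapIso eC.symm
  let P := (single S.Modules (ComplexShape.up ℤ) 0).obj H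
  let eK : DerivedCategory.Q.obj P ≅ K := ((DerivedCategory.singleFunctorIsoCompQ _ 0).app H).symm ≪≫ eH.symm
  have hPz : ∀ i, i ≠ 0 → IsZero (P.X i) := fun i hi => isZero_single_obj_X _ _ _ _ hi
  have hPf : ∀ i, FlatMod.IsFlat (P.X i) := fun i => by
    by_cases hi : i = 0
    · subst hi
      exact FlatResolve.good_isFlat.iso (singleObjXSelf (ComplexShape.up ℤ) 0 H).symm hflatH
    · exact FlatResolve.good_isFlat.zero (hPz i hi)
  haveI : ∀ x : S, DCoh.HasLpull (S.fromSpecResidueField x) := fun x => LeftExists.hasLpull _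
  have h1 : IsZero (P.opcycles (0 + 1)) := IsZero.of_epi (P.pOpcycles (0 + 1)) (hPz _ (by norm_num))
  obtain ⟨h, -⟩ := BettiExact.Converse.main P hPf 0 (fun i hi => hPz i (ne_of_gt hi)) 0
    (((Perfect.FlatPerfect.isPerfect_iff_pc_tor _).1 (Perfect.Triangle.isPerfect_of_iso eK.symm hperf)).1 _)
    (FlatResolve.good_isFlat.iso (singleObjOpcyclesSelfIso (ComplexShape.up ℤ) 0 H) hflatH)
    (FlatResolve.good_isFlat.zero h1)
  exact TensorMod.LocFree.of_iso ((DerivedCategory.homologyFunctor _ 0).mapIso eK) h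

end Groth.Agent.H56.PSup.Free
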