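import Groth.Agent.H56.PSup.Free
import Groth.Agent.H56.RelPC.Push

/-!
# Locally free direct images, without hypotheses on the base
-/

set_option autoImplicit false
set_option linter.style.haveILetI false
set_option linter.unusedSectionVars false

universe u

open CategoryTheory Limits AlgebraicGeometry HomologicalComplex

attribute [local instance] HasDerivedCategory.standard

namespace Groth.Agent.H56.PSup.FreeMain

open Groth.Agent.Lib Groth.Agent.Lib.DerivedOX
open Groth.Agent.Lib.SchColim29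

variable {X S : Scheme.{u}}

theorem isFinLocFree_push (f : X ⟶ S) [LocallyOfFinitePresentation f] [QuasiCompact f]
    [QuasiSeparated f] [HasInjectiveResolutions X.Modules] (F : X.Modules) (hF : CohB1.IsFP F)
    (hflat : FlatMod.IsFlatOver f F) (hsupp : ClSub.IsProperOver f (CohB1.support F))
    (hvan : ∀ i : ℕ, 0 < i → IsZero (((Scheme.Modules.pushforward f).rightDerived i).obj F)) :
    FlatMod.IsFinLocFree ((Scheme.Modules.pushforward f).obj F) := by
  haveI : F.IsQuasicoherent := Groth.Agent.H26.FreeCrit.isQuasicoherent_of_isFP hF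
  haveI := Exists.hasRpush f
  let K := (DCoh.Rpush f).obj (DCoh.inD X F)
  have hK : ∀ k : ℕ, Nonempty (DCoh.HD K (k : ℤ) ≅ ((Scheme.Modules.pushforward f).rightDerived k).obj F) := fun k => by
    obtain ⟨a⟩ := RpushQCoh.nonempty_HD_Rpush f (DCoh.inD X F) (k : ℤ)
    obtain ⟨b⟩ := RpushQCoh.nonempty_RS_iso f F k
    exact ⟨a ≪≫ b⟩
  haveI : K.IsLE 0 := (DerivedCategory.isLE_iff _ _).2 fun i hi => by
    obtain ⟨k, rfl⟩ := Int.eq_ofNat_of_zero_le (le_of_lt hi)
    obtain ⟨a⟩ := hK k
    exact (hvan k (by omega)).of_iso a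
  obtain ⟨e0⟩ := hK 0
  let e : DCoh.HD K 0 ≅ (Scheme.Modules.pushforward f).obj F :=
    e0 ≪≫ ((Scheme.Modules.pushforward f).rightDerivedZeroIsoSelf).app F
  refine TensorMod.LocFree.of_iso e (Kaehler.LocFree.isFinLocFree_of_charts _ fun x => ?_)
  obtain ⟨V, hV, hxV, -⟩ := exists_isAffineOpen_mem_and_subset (X := S) (x := x) (U := ⊤) trivial
  haveI : IsAffine (V : Scheme.{u}) := hV
  let U := f ⁻¹ᵁ V
  have sq : IsPullback U.ι (f ∣_ V) f V.ι := (isPullback_morphismRestrict f V).flip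
  haveI : LocallyOfFinitePresentation (f ∣_ V) := MorphismProperty.of_isPullback sq inferInstance
  haveI : QuasiCompact (f ∣_ V) := MorphismProperty.of_isPullback sq inferInstance
  haveI : QuasiSeparated (f ∣_ V) := MorphismProperty.of_isPullback sq inferInstance
  haveI := Exists.hasRpush (f ∣_ V)
  let F' := (Scheme.Modules.pullback U.ι).obj F
  have hflat' : FlatMod.IsFlatOver (f ∣_ V) F' := fun y =>
    Flat55.FlatOverAt.isFlatOverAt_baseChange f (f ∣_ V) U.ι V.ι sq F y (hflat _)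
  have hsupp' : ClSub.IsProperOver (f ∣_ V) (CohB1.support F') := by
    rw [Modules.SupportOps.support_pullback U.ι F]
    exact _root_.ZarCoh.ProperOver.isProperOver_preimage f U.ι (f ∣_ V) hsupp fun i _ =>
      MorphismProperty.of_isPullback ((IsPullback.of_hasPullback U.ι i).flip.paste_vert sq)
        (inferInstance : IsProper (i ≫ f))
  let eK : (DCoh.restrictD V.ι).obj K ≅
      (DCoh.Rpush (f ∣_ V)).obj (DCoh.inD (U : Scheme.{u}) F') :=
    (RestrictRpush.restrictD_Rpush_iso f V).app _ ≪≫ (DCoh.Rpush (f ∣_ V)).mapIso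
      (Perfect.Regular.RDinD U.ι F ≪≫ (DerivedCategory.singleFunctor _ 0).mapIso
        ((Scheme.Modules.restrictFunctorIsoPullback U.ι).app F))
  have hle : ((DCoh.Rpush (f ∣_ V)).obj (DCoh.inD (U : Scheme.{u}) F')).IsLE 0 :=
    (DerivedCategory.isLE_iff _ _).2 fun i hi =>
      (((Scheme.Modules.restrictFunctor V.ι).map_isZero (DerivedCategory.isZero_of_isLE K 0 i hi)).of_iso
        (RelPC.homologyFD (Scheme.Modules.restrictFunctor V.ι) K i)).of_iso
          ((DerivedCategory.homologyFunctor _ i).mapIso eK).symm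
  have h := Free.isFinLocFree_HD (f ∣_ V) F' (H47.FlatLimit.isFP_pullback U.ι F hF) hflat' hsupp' hle
  obtain ⟨W, n, hW, ⟨eW⟩⟩ := h ⟨x, hxV⟩
  refine ⟨_, W.ι ≫ V.ι, inferInstance, n, ⟨⟨⟨x, hxV⟩, hW⟩, rfl⟩, ⟨?_⟩⟩
  exact (Scheme.Modules.restrictFunctorComp W.ι V.ι).app _ ≪≫
    (Scheme.Modules.restrictFunctor W.ι).mapIso ((RelPC.homologyFD (Scheme.Modules.restrictFunctor V.ι) K 0).symm ≪≫
      (DerivedCategory.homologyFunctor _ 0).mapIso eK) ≪≫ eW

end Groth.Agent.H56.PSup.FreeMain
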