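import Groth.Agent.H56.PSup.Affine
import Groth.Agent.H47.FlatLimit

/-!
# Direct images of perfect objects tensored with flat finitely presented modules with proper support
-/

set_option autoImplicit false
set_option linter.style.haveILetI false
set_option linter.unusedSectionVars false

universe u

open CategoryTheory Limits AlgebraicGeometry HomologicalComplex

attribute [local instance] HasDerivedCategory.standard

namespace Groth.Agent.H56.PSup.Main

open Groth.Agent.Lib Groth.Agent.Lib.DerivedOX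
open Groth.Agent.Lib.SchColim29

variable {X S : Scheme.{u}}

/-- `Rf_*(G ⊗^L D)` is perfect for `D` perfect and `G` flat, finitely presented, with proper support. -/
theorem isPerfect_Rpush (f : X ⟶ S) [LocallyOfFinitePresentation f] [QuasiCompact f]
    [QuasiSeparated f] [DCoh.HasRpush f] (D : CochainComplex X.Modules ℤ)
    (hDk : DCoh.IsKFlat D) (hD : DCoh.IsPerfect (DerivedCategory.Q.obj D)) [DCoh.HasLTensorCx D]
    (G : X.Modules) (hG : CohB1.IsFP G) (hflat : FlatMod.IsFlatOver f G)
    (hsupp : ClSub.IsProperOver f (CohB1.support G)) :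
    DCoh.IsPerfect ((DCoh.Rpush f).obj ((DCoh.LTensorCx D).obj (DCoh.inD X G))) := by
  haveI : G.IsQuasicoherent := Groth.Agent.H26.FreeCrit.isQuasicoherent_of_isFP hG
  refine (Perfect.Triangle.isPerfect_iff _).2 fun x => ?_
  obtain ⟨V, hV, hxV, -⟩ := exists_isAffineOpen_mem_and_subset (X := S) (x := x) (U := ⊤) trivial
  haveI : IsAffine (V : Scheme.{u}) := hV
  let U := f ⁻¹ᵁ V
  let e := (V : Scheme.{u}).isoSpec
  let g : (U : Scheme.{u}) ⟶ Spec Γ((V : Scheme.{u}), ⊤) := (f ∣_ V) ≫ e.hom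
  have sq : IsPullback U.ι g f (e.inv ≫ V.ι) :=
    (isPullback_morphismRestrict f V).flip.of_iso (Iso.refl _) (Iso.refl _) e (Iso.refl _)
      (by simp [U]) (by simp [g, U]) (by simp) (by simp [e])
  haveI : LocallyOfFinitePresentation g := MorphismProperty.of_isPullback sq inferInstance
  haveI : QuasiCompact g := MorphismProperty.of_isPullback sq inferInstance
  haveI : QuasiSeparated g := MorphismProperty.of_isPullback sq inferInstance
  let G' := (Scheme.Modules.pullback U.ι).obj G
  have hG' : CohB1.IsFP G' := H47.FlatLimit.isFP_pullback U.ι G hG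
  have hflat' : FlatMod.IsFlatOver g G' := fun y =>
    Flat55.FlatOverAt.isFlatOverAt_baseChange f g U.ι (e.inv ≫ V.ι) sq G y (hflat _)
  have hsupp' : ClSub.IsProperOver g (CohB1.support G') := by
    rw [Modules.SupportOps.support_pullback U.ι G]
    exact _root_.ZarCoh.ProperOver.isProperOver_preimage f U.ι g hsupp fun i _ =>
      MorphismProperty.of_isPullback ((IsPullback.of_hasPullback U.ι i).flip.paste_vert sq)
        (inferInstance : IsProper (i ≫ f))
  obtain ⟨D', ⟨eD'⟩, hD'⟩ := ProjectionLocal.exists_restrict_LTensor U.ι D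
  haveI := LeftExists.hasLTensorCx D'
  obtain ⟨r⟩ := hD' inferInstance (DCoh.inD X G)
  let D'' := (KFlat.res (U : Scheme.{u})).obj D'
  haveI : QuasiIso ((KFlat.aug (U : Scheme.{u})).app D') := KFlat.quasiIso_aug D'
  haveI := LeftExists.hasLTensorCx D''
  let eD'' : DerivedCategory.Q.obj D'' ≅ DerivedCategory.Q.obj D' :=
    asIso (DerivedCategory.Q.map ((KFlat.aug (U : Scheme.{u})).app D'))
  obtain ⟨P', hP', ⟨eP'⟩⟩ := QCohLocal.exists_kflat (DCoh.inD (U : Scheme.{u}) G')
  obtain ⟨s'⟩ := QCohLocal.nonempty_LTensorCx_iso D' hP'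
  obtain ⟨s''⟩ := QCohLocal.nonempty_LTensorCx_iso D'' hP'
  obtain ⟨c'⟩ := QCohLocal.nonempty_tensor_iso hP' eD''
  have hD''p : DCoh.IsPerfect (DerivedCategory.Q.obj D'') :=
    Perfect.Triangle.isPerfect_of_iso (eD'' ≪≫ eD').symm (RpushPerfect.isPerfect_restrictD U.ι hD)
  haveI := Exists.hasRpush g
  haveI := Exists.hasRpush (f ∣_ V)
  haveI := Exists.hasRpush e.hom
  have h1 := Affine.isPerfect g D'' (KFlat.isKFlat_res D') hD''p G' hG' hflat' hsupp'
  let eW : (DCoh.LTensorCx D'').obj (DCoh.inD (U : Scheme.{u}) G') ≅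
      (DCoh.restrictD U.ι).obj ((DCoh.LTensorCx D).obj (DCoh.inD X G)) :=
    (DCoh.LTensorCx D'').mapIso eP'.symm ≪≫ s'' ≪≫ c' ≪≫ s'.symm ≪≫
      (DCoh.LTensorCx D').mapIso (eP' ≪≫ (DerivedCategory.singleFunctor _ 0).mapIso
        ((Scheme.Modules.restrictFunctorIsoPullback U.ι).app G).symm ≪≫
          (Perfect.Regular.RDinD U.ι G).symm) ≪≫ r.symm
  have h2 := RpushPerfect.isPerfect_restrictD e.hom (Perfect.Triangle.isPerfect_of_iso
    ((PullComp.rpushCompIso (f ∣_ V) e.hom).app _).symm
      (Perfect.Triangle.isPerfect_of_iso ((DCoh.Rpush g).mapIso eW) h1))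
  have h3 := Perfect.Triangle.isPerfect_of_iso
    ((RestrictRpush.restrictD_Rpush_iso f V).app _).symm
    (Perfect.Triangle.isPerfect_of_iso ((OpenImm.counitIso e.hom).app _) h2)
  exact Perfect.Triangle.PerfAt.of_restrict (j := V.ι) (y := ⟨x, hxV⟩) rfl
    ((Perfect.Triangle.isPerfect_iff _).1 h3 _)

end Groth.Agent.H56.PSup.Main
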