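import Groth.Agent.Lib.BettiExact.LTensorTri

/-!
# Triangulated subcategories pulled back along `G(- ⊗^L F)`
-/

set_option autoImplicit false
set_option linter.style.haveILetI false

universe u

open CategoryTheory Limits AlgebraicGeometry HomologicalComplex Pretriangulated ZeroObject

attribute [local instance] HasDerivedCategory.standard

namespace Groth.Agent.H56.PSup.Triangle

open Groth.Agent.Lib Groth.Agent.Lib.DerivedOX Groth.Agent.Lib.BettiExact.LTensorTri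

variable {X Y : Scheme.{u}} (F : CochainComplex X.Modules ℤ) [DCoh.HasLTensorCx F]

/-- `G(- ⊗^L F)` sends the objects of a distinguished triangle to those of another one. -/
theorem exists_triangle (G : DCoh.D X ⥤ DCoh.D Y) [G.CommShift ℤ] [G.IsTriangulated]
    (T : Triangle (DCoh.D X)) (hT : T ∈ distTriang (DCoh.D X)) :
    ∃ T' ∈ distTriang (DCoh.D Y),
      Nonempty (T'.obj₁ ≅ G.obj ((DCoh.LTensorCx F).obj T.obj₁)) ∧
      Nonempty (T'.obj₂ ≅ G.obj ((DCoh.LTensorCx F).obj T.obj₂)) ∧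
      Nonempty (T'.obj₃ ≅ G.obj ((DCoh.LTensorCx F).obj T.obj₃)) := by
  let P := (KFlat.res X).obj F
  let s : P ⟶ F := (KFlat.aug X).app F
  haveI : QuasiIso s := KFlat.quasiIso_aug F
  obtain ⟨θ⟩ := nonempty_iso_tensorCxQ F s (KFlat.isKFlat_res F)
  obtain ⟨A, B, φ, ⟨ι⟩⟩ := (DerivedCategory.mem_distTriang_iff _).1 (inv_rot_of_distTriang _ hT)
  let Q := DerivedCategory.Q (C := X.Modules)
  let S := LocalTor.Split.coneSeq φ
  have hS := LocalTor.Split.shortExact_tensor S (LocalTor.Split.coneSplitting φ) P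
  let W := DCoh.LTensorCx F ⋙ G
  let T' := G.mapTriangle.obj (DerivedCategory.triangleOfSES hS)
  have hT' : T' ∈ distTriang (DCoh.D Y) :=
    G.map_distinguished _ (DerivedCategory.triangleOfSES_distinguished hS)
  let c : T.obj₃ ≅ Q.obj S.X₃ :=
    ((shiftFunctorCompIsoId (DCoh.D X) (-1 : ℤ) (1 : ℤ) (by norm_num)).app T.obj₃).symm ≪≫
      (shiftFunctor (DCoh.D X) (1 : ℤ)).mapIso (Triangle.π₁.mapIso ι) ≪≫
      ((Q.commShiftIso (1 : ℤ)).app A).symm
  let e₁ : T.obj₁ ≅ Q.obj S.X₁ := Triangle.π₂.mapIso ι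
  let e₂ : T.obj₂ ≅ Q.obj S.X₂ := Triangle.π₃.mapIso ι
  exact ⟨T', hT', ⟨(W.mapIso e₁ ≪≫ G.mapIso (θ.app S.X₁)).symm⟩,
    ⟨(W.mapIso e₂ ≪≫ G.mapIso (θ.app S.X₂)).symm⟩, ⟨(W.mapIso c ≪≫ G.mapIso (θ.app S.X₃)).symm⟩⟩

variable (G : DCoh.D X ⥤ DCoh.D Y) [G.CommShift ℤ] [G.IsTriangulated]

/-- The objects whose image under `G(- ⊗^L F)` lies in `P`. -/
def pre (P : ObjectProperty (DCoh.D Y)) : ObjectProperty (DCoh.D X) :=
  fun K => P (G.obj ((DCoh.LTensorCx F).obj K))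

variable (P : ObjectProperty (DCoh.D Y)) [P.IsTriangulated] [P.IsClosedUnderIsomorphisms]

instance pre_isClosedUnderIsomorphisms : (pre F G P).IsClosedUnderIsomorphisms :=
  ⟨fun e h => P.prop_of_iso (G.mapIso ((DCoh.LTensorCx F).mapIso e)) h⟩

theorem pre_of_isZero {Z : DCoh.D X} (hZ : IsZero Z) : pre F G P Z := by
  obtain ⟨T', hT', ⟨a⟩, ⟨b⟩, ⟨c⟩⟩ := exists_triangle F G (contractibleTriangle Z)
    (contractible_distinguished Z)
  have hz : IsZero (G.obj ((DCoh.LTensorCx F).obj Z)) :=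
    G.map_isZero ((DCoh.LTensorCx F).map_isZero hZ)
  obtain ⟨O, hO, hPO⟩ := ObjectProperty.exists_prop_of_containsZero P
  exact P.prop_of_iso (hO.iso hz) hPO

theorem pre_ext₂ (T : Triangle (DCoh.D X)) (hT : T ∈ distTriang (DCoh.D X))
    (h₁ : pre F G P T.obj₁) (h₃ : pre F G P T.obj₃) : pre F G P T.obj₂ := by
  obtain ⟨T', hT', ⟨a⟩, ⟨b⟩, ⟨c⟩⟩ := exists_triangle F G T hT
  exact P.prop_of_iso b (ObjectProperty.ext_of_isTriangulatedClosed₂ P T' hT'
    (P.prop_of_iso a.symm h₁) (P.prop_of_iso c.symm h₃))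

theorem pre_ext₁ (T : Triangle (DCoh.D X)) (hT : T ∈ distTriang (DCoh.D X))
    (h₂ : pre F G P T.obj₂) (h₃ : pre F G P T.obj₃) : pre F G P T.obj₁ := by
  obtain ⟨T', hT', ⟨a⟩, ⟨b⟩, ⟨c⟩⟩ := exists_triangle F G T hT
  exact P.prop_of_iso a (ObjectProperty.ext_of_isTriangulatedClosed₁ P T' hT'
    (P.prop_of_iso b.symm h₂) (P.prop_of_iso c.symm h₃))

theorem pre_ext₃ (T : Triangle (DCoh.D X)) (hT : T ∈ distTriang (DCoh.D X))
    (h₁ : pre F G P T.obj₁) (h₂ : pre F G P T.obj₂) : pre F G P T.obj₃ := by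
  obtain ⟨T', hT', ⟨a⟩, ⟨b⟩, ⟨c⟩⟩ := exists_triangle F G T hT
  exact P.prop_of_iso c (ObjectProperty.ext_of_isTriangulatedClosed₃ P T' hT'
    (P.prop_of_iso a.symm h₁) (P.prop_of_iso b.symm h₂))

theorem pre_shift_one {K : DCoh.D X} (h : pre F G P K) : pre F G P (K⟦(1 : ℤ)⟧) :=
  pre_ext₃ F G P (contractibleTriangle K).rotate
    (rot_of_distTriang _ (contractible_distinguished K)) h (pre_of_isZero F G P (Limits.isZero_zero _))

theorem pre_shift_neg_one {K : DCoh.D X} (h : pre F G P K) : pre F G P (K⟦(-1 : ℤ)⟧) :=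
  pre_ext₁ F G P (contractibleTriangle (K⟦(-1 : ℤ)⟧)).rotate
    (rot_of_distTriang _ (contractible_distinguished _)) (pre_of_isZero F G P (Limits.isZero_zero _))
    ((pre F G P).prop_of_iso ((shiftFunctorCompIsoId (DCoh.D X) (-1 : ℤ) 1 (by norm_num)).app K).symm h)

instance pre_isTriangulated : (pre F G P).IsTriangulated where
  exists_zero := ⟨0, Limits.isZero_zero _, pre_of_isZero F G P (Limits.isZero_zero _)⟩
  isStableUnderShiftBy := fun n => ⟨fun K h => by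
    show pre F G P ((shiftFunctor (DCoh.D X) n).obj K)
    induction n using Int.induction_on with
    | zero => exact (pre F G P).prop_of_iso ((shiftFunctorZero (DCoh.D X) ℤ).app K).symm h
    | succ m ih =>
      exact (pre F G P).prop_of_iso ((shiftFunctorAdd' (DCoh.D X) (m : ℤ) 1 _ rfl).app K).symm
        (pre_shift_one F G P ih)
    | pred m ih =>
      exact (pre F G P).prop_of_iso
        ((shiftFunctorAdd' (DCoh.D X) (-(m : ℤ)) (-1) _ (by omega)).app K).symm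
        (pre_shift_neg_one F G P ih)⟩
  ext₂' := fun T hT h₁ h₃ => ⟨T.obj₂, pre_ext₂ F G P T hT h₁ h₃, ⟨Iso.refl _⟩⟩

end Groth.Agent.H56.PSup.Triangle
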