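import Groth.Agent.H56.PCSingle.Induct
import Groth.Agent.H56.PSup.Triangle

/-!
# Bounded complexes with terms in a triangulated subcategory
-/

set_option autoImplicit false
set_option linter.style.haveILetI false

universe u

open CategoryTheory Limits AlgebraicGeometry HomologicalComplex Pretriangulated

attribute [local instance] HasDerivedCategory.standard

namespace Groth.Agent.H56.PSup.Termwise

open Groth.Agent.Lib Groth.Agent.H56

variable {X : Scheme.{u}} (P : ObjectProperty (DCoh.D X)) [P.IsTriangulated]
  [P.IsClosedUnderIsomorphisms]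

theorem prop_single {M : X.Modules} (h : P (DCoh.inD X M)) (n : ℤ) :
    P ((DerivedCategory.singleFunctor X.Modules n).obj M) := by
  have h1 : P ((DCoh.inD X M)⟦-n⟧) := P.le_shift (-n) _ h
  exact P.prop_of_iso
    (((DerivedCategory.singleFunctors X.Modules).shiftIso (-n) n 0 (by omega)).app M) h1

/-- A bounded complex with terms in a triangulated subcategory lies in it. -/
theorem prop_of_termwise (F : CochainComplex X.Modules ℤ) (a b : ℤ)
    (hF : ∀ i, i < a ∨ b < i → IsZero (F.X i)) (h : ∀ i, a ≤ i → i ≤ b → P (DCoh.inD X (F.X i))) :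
    P (DerivedCategory.Q.obj F) := by
  have hz : ∀ {Z : DCoh.D X}, IsZero Z → P Z := fun {Z} hZ => by
    obtain ⟨O, hO, hPO⟩ := ObjectProperty.exists_prop_of_containsZero P
    exact P.prop_of_iso (hO.iso hZ) hPO
  have hterm : ∀ i, P (DCoh.inD X (F.X i)) := fun i => by
    by_cases hi : i < a ∨ b < i
    · exact hz ((DerivedCategory.singleFunctor X.Modules 0).map_isZero (hF i hi))
    · exact h i (by omega) (by omega)
  have key : ∀ (k : ℕ) (c : ℤ) (E : CochainComplex X.Modules ℤ), b < c + k →
      (∀ i, i < c → IsZero (E.X i)) → (∀ i, b < i → IsZero (E.X i)) →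
      (∀ i, P (DCoh.inD X (E.X i))) → P (DerivedCategory.Q.obj E) := by
    intro k
    induction k with
    | zero =>
      intro c E hk hlo hhi _
      refine hz (DerivedCategory.Q.map_isZero ?_)
      rw [IsZero.iff_id_eq_zero]
      refine HomologicalComplex.hom_ext _ _ fun i => ?_
      apply IsZero.eq_of_src
      by_cases hi : i < c
      · exact hlo i hi
      · exact hhi i (by omega)
    | succ k ih =>
      intro c E hk hlo hhi hE
      obtain ⟨f, g, δ, hd⟩ := PCSingle.exists_bottom E c hlo
      refine ObjectProperty.ext_of_isTriangulatedClosed₂ P (Triangle.mk f g δ) hd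
        (ih (c + 1) _ (by omega) (Perfect.Stupid.isZero_trunc E _) (fun i hi => ?_) fun i => ?_)
        (prop_single P (hE c) c)
      · have : Mono ((Perfect.Stupid.ι E (c + 1)).f i) := inferInstanceAs (Mono (kernel.ι _))
        exact IsZero.of_mono ((Perfect.Stupid.ι E (c + 1)).f i) (hhi i hi)
      · by_cases hi : i < c + 1
        · exact hz ((DerivedCategory.singleFunctor X.Modules 0).map_isZero
            (Perfect.Stupid.isZero_trunc E _ i hi))
        · have := Perfect.Stupid.isIso_ι E (c + 1) i (by omega)
          exact P.prop_of_iso ((DerivedCategory.singleFunctor X.Modules 0).mapIso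
            (asIso ((Perfect.Stupid.ι E (c + 1)).f i)).symm) (hE i)
  exact key (b - a + 1).toNat a F (by omega) (fun i hi => hF i (Or.inl hi))
    (fun i hi => hF i (Or.inr hi)) hterm

end Groth.Agent.H56.PSup.Termwise
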