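import Groth.Agent.H56.PSup.Main
import Groth.Agent.H56.PSup.Termwise
import Groth.Agent.H56.PSup.Free
import Groth.Agent.Lib.SchColim29.RpushPC
import Groth.Agent.Lib.SchColim29.PerfTensor
import Groth.Agent.Lib.LocalTor.Coherent
import Groth.Agent.Lib.DerivedOX.ProjectionLocal
import Groth.Agent.Lib.Modules.Support
import Groth.Agent.S11122

/-!
# Direct images of pseudo-coherent objects tensored with flat complexes of proper support
-/

set_option autoImplicit false
set_option linter.style.haveILetI false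
set_option linter.unusedSectionVars false

universe u

open CategoryTheory Limits AlgebraicGeometry Pretriangulated HomologicalComplex

attribute [local instance] HasDerivedCategory.standard

namespace Groth.Agent.H56.PSup.PC

open Groth.Agent.Lib Groth.Agent.Lib.DerivedOX Groth.Agent.Lib.Perfect
open Groth.Agent.Lib.Perfect.Basic Groth.Agent.Lib.SchColim29

variable {X S : Scheme.{u}}

/-- A complex of quasi-coherent modules has quasi-coherent cohomology. -/
theorem isQCohD_terms (E : CochainComplex X.Modules ℤ) (hE : ∀ n, (E.X n).IsQuasicoherent) :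
    DCoh.IsQCohD (DCoh.toD X E) := fun i => by
  haveI := hE
  have h1 : (E.cycles i).IsQuasicoherent := by
    haveI := QCoh.Closure.isQCoh_kernel (E.d i ((ComplexShape.up ℤ).next i))
    exact @CohBasics.Closure.isQCoh_of_iso _ _ _
      ((E.cyclesIsKernel i _ rfl).conePointUniqueUpToIso (kernelIsKernel _)).symm ‹_›
  have h2 : (E.homology i).IsQuasicoherent := by
    haveI := h1
    haveI := QCoh.Closure.isQCoh_cokernel (E.toCycles ((ComplexShape.up ℤ).prev i) i)
    exact @CohBasics.Closure.isQCoh_of_iso _ _ _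
      ((E.homologyIsCokernel _ i rfl).coconePointUniqueUpToIso (cokernelIsCokernel _)).symm ‹_›
  exact @CohBasics.Closure.isQCoh_of_iso _ _ _
    ((DerivedCategory.homologyFunctorFactors X.Modules i).app E).symm h2

/-- Top degree of a derived tensor product. -/
theorem isLE_LTensor (F : CochainComplex X.Modules ℤ) [DCoh.HasLTensorCx F] {K : DCoh.D X} (b d : ℤ)
    (hF : ∀ i, d < i → IsZero (F.X i)) (hK : K.IsLE b) : ((DCoh.LTensorCx F).obj K).IsLE (b + d) := by
  let K₀ := DerivedCategory.Q.objPreimage K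
  let e : DerivedCategory.Q.obj K₀ ≅ K := DerivedCategory.Q.objObjPreimageIso K
  have h₀ : ∀ i, b < i → K₀.ExactAt i := fun i hi => by
    rw [HomologicalComplex.exactAt_iff_isZero_homology]
    exact (DerivedCategory.isZero_of_isLE K b i hi).of_iso
      (((DerivedCategory.homologyFunctorFactors X.Modules i).app K₀).symm ≪≫
        (DerivedCategory.homologyFunctor X.Modules i).mapIso e)
  obtain ⟨P, s, hP, hPf, hs⟩ := FlatResolve.exists_flat_resolution K₀ b h₀
  haveI := hs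
  obtain ⟨t⟩ := QCohLocal.nonempty_LTensorCx_iso F (Amplitude.isKFlat_of_bounded P b hP hPf)
  let eT := ((DCoh.LTensorCx F).mapIso (asIso (DerivedCategory.Q.map s) ≪≫ e)).symm ≪≫ t
  refine (DerivedCategory.isLE_iff _ _).2 fun i hi => ?_
  exact ((HomologicalComplex.ExactAt.of_isZero
    (LocalTor.Coherent.isZero_tensorCx_X hP hF i hi)).isZero_homology).of_iso
    ((DerivedCategory.homologyFunctor X.Modules i).mapIso eT ≪≫
      (DerivedCategory.homologyFunctorFactors X.Modules i).app _)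

theorem isPC_affine [IsAffine S] (f : X ⟶ S) [LocallyOfFinitePresentation f] [QuasiCompact f]
    [QuasiSeparated f] [DCoh.HasRpush f] (E : DCoh.D X)
    (hE : ∀ m : ℤ, DCoh.IsPseudoCoherentD m E) (G : CochainComplex X.Modules ℤ)
    (hGb : ∃ b : ℤ, ∀ i : ℤ, b < i → IsZero (G.X i)) (hGfp : ∀ i : ℤ, CohB1.IsFP (G.X i))
    (hGflat : ∀ i : ℤ, FlatMod.IsFlatOver f (G.X i))
    (hGsupp : ∀ i : ℤ, ClSub.IsProperOver f (CohB1.support (G.X i)))
    [DCoh.HasLTensorCx G] (m : ℤ) :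
    DCoh.IsPseudoCoherentD m ((DCoh.Rpush f).obj ((DCoh.LTensorCx G).obj E)) := by
  haveI : CompactSpace X := QuasiCompact.compactSpace_of_compactSpace f
  haveI : QuasiSeparatedSpace X := quasiSeparatedSpace_of_quasiSeparated f
  obtain ⟨N, hN⟩ := RpushTor.exists_bound f
  obtain ⟨b, hb⟩ := hGb
  obtain ⟨r, hr⟩ := Gen43.Approx.exists_approx (X := X) ⊥
    (by rw [TopologicalSpace.Opens.coe_bot]; exact isCompact_empty)
  have hq : DCoh.IsQCohD E := S11122.isQCohD_of_pc hE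
  have hGq : ∀ i, (G.X i).IsQuasicoherent := fun i =>
    Groth.Agent.H26.FreeCrit.isQuasicoherent_of_isFP (hGfp i)
  have hGD : DCoh.IsQCohD (DCoh.toD X G) := isQCohD_terms G hGq
  let m₁ : ℤ := m - N - b
  obtain ⟨P, α, hP, -, hα⟩ := hr m₁ E hq (hE _) (fun _ _ _ hx => hx.elim)
  obtain ⟨C, g, h, hT⟩ := distinguished_cocone_triangle α
  have hC : C.IsLE (m₁ - 1) := (DerivedCategory.isLE_iff _ _).2 fun i hi =>
    (Ascent.good_iff m₁ _ hT).1 hα i (by omega)
  have hCq : DCoh.IsQCohD C := ObjectProperty.ext_of_isTriangulatedClosed₃ _ _ hT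
    (QCohD.isQCohD_of_isPerfect hP) hq
  have hRC := hN _ _ (QCohLocal.isQCohD_LTensorCx G hGD hCq) (isLE_LTensor G (m₁ - 1) b hb hC)
  obtain ⟨a, d, D, hD, hDf, ⟨eD⟩⟩ := PerfTensor.flatAmp_of_isPerfect hP
  have hDk : DCoh.IsKFlat D := Amplitude.isKFlat_of_bounded D d (fun i hi => hD i (Or.inr hi)) hDf
  haveI := LeftExists.hasLTensorCx D
  obtain ⟨PG, hPG, ⟨ePG⟩⟩ := QCohLocal.exists_kflat (DerivedCategory.Q.obj G)
  obtain ⟨tG⟩ := QCohLocal.nonempty_LTensorCx_iso G hDk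
  obtain ⟨tD⟩ := QCohLocal.nonempty_LTensorCx_iso D hPG
  obtain ⟨c⟩ := QCohLocal.nonempty_tensor_iso hDk ePG
  let eswap : (DCoh.LTensorCx G).obj P ≅ (DCoh.LTensorCx D).obj (DerivedCategory.Q.obj G) :=
    (DCoh.LTensorCx G).mapIso eD.symm ≪≫ tG ≪≫ c.symm ≪≫
      DerivedCategory.Q.mapIso (TensorSymm.commCx _ _) ≪≫ tD.symm ≪≫ (DCoh.LTensorCx D).mapIso ePG
  let k : ℤ := m - N - d
  let T := Stupid.trunc G k
  obtain ⟨C', g', h', hT'⟩ := distinguished_cocone_triangle (DerivedCategory.Q.map (Stupid.ι G k))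
  have hC' : C'.IsLE (k - 1) := (DerivedCategory.isLE_iff _ _).2 fun i hi =>
    (Ascent.good_iff k _ hT').1 (Stupid.good_ι G k) i (by omega)
  have hTq : DCoh.IsQCohD (DCoh.toD X T) := isQCohD_terms T fun i => by
    by_cases hi : k ≤ i
    · haveI := Stupid.isIso_ι G k i hi
      exact @CohBasics.Closure.isQCoh_of_iso _ _ _ (asIso ((Stupid.ι G k).f i)).symm (hGq i)
    · exact RpushQCoh.qc_of_isZero (Stupid.isZero_trunc G k i (by omega))
  have hC'q : DCoh.IsQCohD C' := ObjectProperty.ext_of_isTriangulatedClosed₃ _ _ hT' hTq hGD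
  have hDq : DCoh.IsQCohD (DCoh.toD X D) :=
    QCohD.isQCohD_of_isPerfect (Triangle.isPerfect_of_iso eD.symm hP)
  have hRC' := hN _ _ (QCohLocal.isQCohD_LTensorCx D hDq hC'q)
    (isLE_LTensor D (k - 1) d (fun i hi => hD i (Or.inr hi)) hC')
  let Pf : ObjectProperty (DCoh.D S) := fun K => DCoh.IsPerfect K
  have hTperf : DCoh.IsPerfect ((DCoh.Rpush f).obj ((DCoh.LTensorCx D).obj (DerivedCategory.Q.obj T))) := by
    refine Termwise.prop_of_termwise (PSup.Triangle.pre D (DCoh.Rpush f) Pf) T k b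
      (fun i hi => ?_) (fun i hi _ => ?_)
    · rcases hi with hi | hi
      · exact Stupid.isZero_trunc G k i hi
      · haveI : Mono ((Stupid.ι G k).f i) := inferInstanceAs (Mono (kernel.ι _))
        exact IsZero.of_mono ((Stupid.ι G k).f i) (hb i hi)
    · haveI := Stupid.isIso_ι G k i hi
      show DCoh.IsPerfect ((DCoh.Rpush f).obj ((DCoh.LTensorCx D).obj (DCoh.inD X (T.X i))))
      exact Triangle.isPerfect_of_iso ((DCoh.Rpush f).mapIso ((DCoh.LTensorCx D).mapIso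
          ((DerivedCategory.singleFunctor X.Modules 0).mapIso (asIso ((Stupid.ι G k).f i)).symm)))
        (Main.isPerfect_Rpush f D hDk (Triangle.isPerfect_of_iso eD.symm hP) (G.X i) (hGfp i)
          (hGflat i) (hGsupp i))
  obtain ⟨U, hU, ⟨u₁⟩, ⟨u₂⟩, ⟨u₃⟩⟩ := PSup.Triangle.exists_triangle D (DCoh.Rpush f) _ hT'
  obtain ⟨V, hV, ⟨v₁⟩, ⟨v₂⟩, ⟨v₃⟩⟩ := PSup.Triangle.exists_triangle G (DCoh.Rpush f) _ hT
  refine (PseudoCoh.iff_forall _ _).2 fun y => PseudoCoh.PCAt.of_iso v₂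
    (PseudoCoh.pcAt₂ hV ?_ ?_)
  · refine PseudoCoh.PCAt.of_iso (v₁ ≪≫ (DCoh.Rpush f).mapIso eswap).symm
      (PseudoCoh.PCAt.of_iso u₂ (PseudoCoh.pcAt₂ hU ?_ ?_))
    · exact PseudoCoh.PCAt.of_iso u₁.symm (Gen43.Approx.pcAt_perfect hTperf m y)
    · refine PseudoCoh.PCAt.of_iso u₃.symm (PseudoCoh.pcAt_of_vanish (fun i hi => ?_) y)
      exact (DerivedCategory.isLE_iff _ _).1 hRC' i (by omega)
  · refine PseudoCoh.PCAt.of_iso v₃.symm (PseudoCoh.pcAt_of_vanish (fun i hi => ?_) y)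
    exact (DerivedCategory.isLE_iff _ _).1 hRC i (by omega)

/-- `Rf_*(E ⊗^L G)` is pseudo-coherent. -/
theorem isPC (f : X ⟶ S) [LocallyOfFinitePresentation f] [QuasiCompact f]
    [QuasiSeparated f] [DCoh.HasRpush f] (E : DCoh.D X)
    (hE : ∀ m : ℤ, DCoh.IsPseudoCoherentD m E) (G : CochainComplex X.Modules ℤ)
    (hGb : ∃ b : ℤ, ∀ i : ℤ, b < i → IsZero (G.X i)) (hGfp : ∀ i : ℤ, CohB1.IsFP (G.X i))
    (hGflat : ∀ i : ℤ, FlatMod.IsFlatOver f (G.X i))
    (hGsupp : ∀ i : ℤ, ClSub.IsProperOver f (CohB1.support (G.X i)))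
    [DCoh.HasLTensorCx G] (m : ℤ) :
    DCoh.IsPseudoCoherentD m ((DCoh.Rpush f).obj ((DCoh.LTensorCx G).obj E)) := by
  refine (PseudoCoh.iff_forall _ _).2 fun x => ?_
  obtain ⟨V, hV, hxV, -⟩ := exists_isAffineOpen_mem_and_subset (X := S) (x := x) (U := ⊤) trivial
  haveI : IsAffine (V : Scheme.{u}) := hV
  haveI := Exists.hasRpush (f ∣_ V)
  let U := f ⁻¹ᵁ V
  have sq : IsPullback U.ι (f ∣_ V) f V.ι := (isPullback_morphismRestrict f V).flip
  haveI : LocallyOfFinitePresentation (f ∣_ V) := MorphismProperty.of_isPullback sq inferInstance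
  haveI : QuasiCompact (f ∣_ V) := MorphismProperty.of_isPullback sq inferInstance
  haveI : QuasiSeparated (f ∣_ V) := MorphismProperty.of_isPullback sq inferInstance
  let G' := (rC U.ι).obj G
  let ip : ∀ i, G'.X i ≅ (Scheme.Modules.pullback U.ι).obj (G.X i) := fun i =>
    (Scheme.Modules.restrictFunctorIsoPullback U.ι).app (G.X i)
  obtain ⟨D', ⟨eD'⟩, hD'⟩ := ProjectionLocal.exists_restrict_LTensor U.ι G
  haveI := LeftExists.hasLTensorCx D'
  obtain ⟨r⟩ := hD' inferInstance E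
  haveI := LeftExists.hasLTensorCx G'
  obtain ⟨P, hP, ⟨eP⟩⟩ := QCohLocal.exists_kflat ((DCoh.restrictD U.ι).obj E)
  obtain ⟨s'⟩ := QCohLocal.nonempty_LTensorCx_iso D' hP
  obtain ⟨s''⟩ := QCohLocal.nonempty_LTensorCx_iso G' hP
  obtain ⟨c⟩ := QCohLocal.nonempty_tensor_iso hP (eD' ≪≫ RDQ U.ι G)
  have h := isPC_affine (f ∣_ V) ((DCoh.restrictD U.ι).obj E)
    (fun k => RpushPC.isPC_restrictD U.ι (hE k)) G'
    (hGb.imp fun b hb i hi => (Scheme.Modules.restrictFunctor U.ι).map_isZero (hb i hi))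
    (fun i => (SheafOfModules.isFinitePresentation (U : Scheme.{u}).ringCatSheaf).prop_of_iso
      (ip i).symm (H47.FlatLimit.isFP_pullback U.ι _ (hGfp i)))
    (fun i y => Flat55.FlatOverAt.of_iso (f ∣_ V) (ip i).symm y
      (Flat55.FlatOverAt.isFlatOverAt_baseChange f (f ∣_ V) U.ι V.ι sq (G.X i) y (hGflat i _)))
    (fun i => by
      rw [Modules.Support.support_congr (ip i), Modules.SupportOps.support_pullback U.ι (G.X i)]
      exact _root_.ZarCoh.ProperOver.isProperOver_preimage f U.ι (f ∣_ V) (hGsupp i) fun j _ =>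
        MorphismProperty.of_isPullback ((IsPullback.of_hasPullback U.ι j).flip.paste_vert sq)
          (inferInstance : IsProper (j ≫ f))) m
  let eW : (DCoh.restrictD U.ι).obj ((DCoh.LTensorCx G).obj E) ≅
      (DCoh.LTensorCx G').obj ((DCoh.restrictD U.ι).obj E) :=
    r ≪≫ (DCoh.LTensorCx D').mapIso eP.symm ≪≫ s' ≪≫ c ≪≫ s''.symm ≪≫
      (DCoh.LTensorCx G').mapIso eP
  exact PseudoCoh.PCAt.of_restrict (j := V.ι) (y := ⟨x, hxV⟩) rfl
    (PseudoCoh.PCAt.of_iso (((DCoh.Rpush (f ∣_ V)).mapIso eW).symm ≪≫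
      ((RestrictRpush.restrictD_Rpush_iso f V).app _).symm)
      ((PseudoCoh.iff_forall _ _).1 h _))

end Groth.Agent.H56.PSup.PC
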